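import Cfsg.Agent.Lib.Helper12.TC.Suz1782.Tab
import Cfsg.Agent.Lib.Helper12.TC.SuzPres

/-! the permutation representation for Suz1782 (generated, helper12) -/

set_option autoImplicit false
set_option maxRecDepth 100000


namespace Cfsg.Agent.Lib.Helper12.TC.Suz1782

open Cfsg.Agent.Lib.Helper12.TC Cfsg.Agent.Lib.Helper12.TC.SuzPres

theorem hperm : permK TT 7 cN = true := by decide +kernel

theorem hrels : relsK TT cN (coxWords Cfsg.Spor.Suz.edges gen 7 ++ extraWords) = true := by
  decide +kernel

theorem hsub : subK TT 7 sw = true := by decide +kernel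

theorem htrans : transK TT 7 cN sw = true := by decide +kernel

theorem horbi0 : orbInvK TT sw 1 1366 = true := by decide +kernel

theorem horbc0 : orbConnK TT sw 1 1366 = true := by decide +kernel

theorem horbi1 : orbInvK TT sw 1366 1782 = true := by decide +kernel

theorem horbc1 : orbConnK TT sw 1366 1782 = true := by decide +kernel

end Cfsg.Agent.Lib.Helper12.TC.Suz1782
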