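import Cfsg.Agent.Lib.Helper12.TC.Suz1782.Chk0
import Cfsg.Agent.Lib.Helper12.TC.Suz1782.Chk1
import Cfsg.Agent.Lib.Helper12.TC.Suz1782.Perm
import Cfsg.Agent.Lib.Helper12.TC.Suz1782.Fin

/-! the index theorem for Suz1782 (generated, helper12) -/

set_option autoImplicit false
set_option maxRecDepth 100000

namespace Cfsg.Agent.Lib.Helper12.TC.Suz1782

open Cfsg.Agent.Lib.Helper12.TC Cfsg.Agent.Lib.Helper12.TC.SuzPres

/-- the chunks of the certificate -/
def chunks : List (ℕ × List ℕ) :=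
  [(7178, c0), (9178, c1), (11178, c2), (13178, c3), (15178, c4), (17178, c5), (19178, c6), (21178, c7), (23178, c8)]

theorem hcover : coverK cD cK chunks = true := by decide +kernel

theorem hchunks : ∀ c ∈ chunks, chunkK F RW cR0 c.2 c.1 = true := by
  unfold chunks
  simp only [List.forall_mem_cons, List.not_mem_nil, false_imp_iff, implies_true, and_true]
  exact ⟨chunk0, chunk1, chunk2, chunk3, chunk4, chunk5, chunk6, chunk7, chunk8⟩

/-- the subgroup generators -/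
def S : Set (FreeGroup Cfsg.Spor.Suz.Gen) := {Cfsg.Spor.Suz.a, Cfsg.Spor.Suz.b, Cfsg.Spor.Suz.c, Cfsg.Spor.Suz.d, Cfsg.Spor.Suz.e, Cfsg.Spor.Suz.f}

theorem hS : (PresentedGroup.mk (Cfsg.Spor.coxRelators Cfsg.Spor.Suz.edges ∪
      {r | r ∈ Cfsg.Spor.Suz.extra})) '' S =
    {γ | ∃ w ∈ sw, γ = wprod (fun i => PresentedGroup.mk (Cfsg.Spor.coxRelators Cfsg.Spor.Suz.edges ∪
      {r | r ∈ Cfsg.Spor.Suz.extra}) (FreeGroup.of (gen i))) w} := by
  ext γ
  constructor
  · rintro ⟨x, hx, rfl⟩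
    rcases hx with rfl | rfl | rfl | rfl | rfl | rfl
    · exact ⟨[0], by decide, by simp [wprod, gen]⟩
    · exact ⟨[1], by decide, by simp [wprod, gen]⟩
    · exact ⟨[2], by decide, by simp [wprod, gen]⟩
    · exact ⟨[3], by decide, by simp [wprod, gen]⟩
    · exact ⟨[4], by decide, by simp [wprod, gen]⟩
    · exact ⟨[5], by decide, by simp [wprod, gen]⟩
  · rintro ⟨w, hw, rfl⟩
    simp only [sw, List.mem_cons, List.not_mem_nil, or_false] at hw
    rcases hw with rfl | rfl | rfl | rfl | rfl | rfl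
    · exact ⟨Cfsg.Spor.Suz.a, Or.inl rfl, by simp [wprod, gen]⟩
    · exact ⟨Cfsg.Spor.Suz.b, Or.inr (Or.inl rfl), by simp [wprod, gen]⟩
    · exact ⟨Cfsg.Spor.Suz.c, Or.inr (Or.inr (Or.inl rfl)), by simp [wprod, gen]⟩
    · exact ⟨Cfsg.Spor.Suz.d, Or.inr (Or.inr (Or.inr (Or.inl rfl))), by simp [wprod, gen]⟩
    · exact ⟨Cfsg.Spor.Suz.e, Or.inr (Or.inr (Or.inr (Or.inr (Or.inl rfl)))), by simp [wprod, gen]⟩
    · exact ⟨Cfsg.Spor.Suz.f, Or.inr (Or.inr (Or.inr (Or.inr (Or.inr rfl)))), by simp [wprod, gen]⟩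

/-- the index of the subgroup and the orbits on its cosets -/
theorem main :
    ((Subgroup.closure S).map (PresentedGroup.mk (Cfsg.Spor.coxRelators Cfsg.Spor.Suz.edges ∪
      {r | r ∈ Cfsg.Spor.Suz.extra}))).index = cN ∧
    ∃ Φ : (PresentedGroup (Cfsg.Spor.coxRelators Cfsg.Spor.Suz.edges ∪
        {r | r ∈ Cfsg.Spor.Suz.extra}) ⧸
        (Subgroup.closure S).map (PresentedGroup.mk (Cfsg.Spor.coxRelators Cfsg.Spor.Suz.edges ∪
          {r | r ∈ Cfsg.Spor.Suz.extra}))) ≃ Fin cN,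
      ∀ (b : Fin cN) (hi : ℕ), b.val < hi → hi ≤ cN → orbInvK TT sw b.val hi = true →
        orbConnK TT sw b.val hi = true →
        Φ '' (MulAction.orbit ((Subgroup.closure S).map
          (PresentedGroup.mk (Cfsg.Spor.coxRelators Cfsg.Spor.Suz.edges ∪
            {r | r ∈ Cfsg.Spor.Suz.extra}))) (Φ.symm b)) =
          {i : Fin cN | b.val ≤ i.val ∧ i.val < hi} :=
  presented_index Cfsg.Spor.Suz.edges Cfsg.Spor.Suz.extra gen idx 7 (by decide) hidx hgi hnodes
    extraWords hextra sw S hS F RW finrecs TT rotW chunks cD cK cR0 cR cN hdefs hchunks hcover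
    hrelc hlet hperm hrels hsub htrans hfin hlen (by decide)

end Cfsg.Agent.Lib.Helper12.TC.Suz1782
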